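import Groth.Agent.GeomProp.PiReduced
import Groth.Agent.GeomRedSpread.Core
import Groth.Agent.ZeroSch.Over
import Mathlib.AlgebraicGeometry.Limits
import Mathlib.AlgebraicGeometry.Morphisms.ClosedImmersion
import Mathlib.AlgebraicGeometry.Noetherian

/-! Generic smoothness of the reduced base change after a purely inseparable extension. -/

set_option autoImplicit false
set_option backward.isDefEq.respectTransparency false

universe u

open CategoryTheory CategoryTheory.Limits AlgebraicGeometry TopologicalSpace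
open scoped TensorProduct

noncomputable section

namespace Groth.Agent.PiSmooth

/-- A scheme with Noetherian space has a dense affine open. -/
theorem exists_dense_isAffineOpen (X : Scheme.{u}) [NoetherianSpace X] :
    ∃ U : X.Opens, IsAffineOpen U ∧ Dense (U : Set X) := by
  classical
  have hirr : (irreducibleComponents (X : Type u)).Finite := NoetherianSpace.finite_irreducibleComponents
  haveI := hirr.to_subtype
  have key : ∀ Z : irreducibleComponents (X : Type u), ∃ U : X.Opens, IsAffineOpen U ∧ (U : Set X).Nonempty ∧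
      ∀ T : irreducibleComponents (X : Type u), T ≠ Z → Disjoint (U : Set X) T.1 := by
    intro Z
    set S := ⋃₀ (irreducibleComponents (X : Type u) \ {Z.1}) with hS
    have hSc : IsClosed S := by
      rw [hS, Set.sUnion_eq_biUnion]
      exact Set.Finite.isClosed_biUnion (hirr.subset Set.sdiff_subset)
        fun T hT => isClosed_of_mem_irreducibleComponents T hT.1
    have hne : (Sᶜ).Nonempty := by
      rw [Set.nonempty_compl]
      intro h
      obtain ⟨T, hT, hTsub⟩ := isIrreducible_iff_sUnion_isClosed.1 Z.2.1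
        (hirr.subset Set.sdiff_subset).toFinset (fun T hT => isClosed_of_mem_irreducibleComponents T
          ((Set.Finite.mem_toFinset _).1 hT).1)
        (by rw [Set.Finite.coe_toFinset]; exact (hS ▸ h) ▸ Set.subset_univ _)
      rw [Set.Finite.mem_toFinset] at hT
      exact hT.2 (le_antisymm (Z.2.2 hT.1.1 hTsub) hTsub)
    obtain ⟨x, hx⟩ := hne
    obtain ⟨W, hW, hxW, hWS⟩ := exists_isAffineOpen_mem_and_subset (X := X) (x := x) (U := ⟨Sᶜ, hSc.isOpen_compl⟩) hx
    refine ⟨W, hW, ⟨x, hxW⟩, fun T hT => Set.disjoint_left.2 fun y hy hyT => hWS hy ?_⟩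
    exact ⟨T.1, ⟨T.2, fun h => hT (Subtype.ext h)⟩, hyT⟩
  choose U hU hne hdisj using key
  have hsub : ∀ Z, (U Z : Set X) ⊆ Z.1 := fun Z y hy => by
    by_contra hyZ
    let T : irreducibleComponents (X : Type u) := ⟨_, irreducibleComponent_mem_irreducibleComponents y⟩
    exact Set.disjoint_left.1 (hdisj Z T fun h => hyZ (h ▸ mem_irreducibleComponent)) hy mem_irreducibleComponent
  refine ⟨⨆ Z, U Z, IsAffineOpen.iSup_of_disjoint hU fun Z Z' h => ?_, ?_⟩
  · change Disjoint (U Z) (U Z')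
    rw [disjoint_iff]
    refine Opens.ext (Set.eq_empty_iff_forall_notMem.2 fun y hy => ?_)
    exact Set.disjoint_left.1 (hdisj Z Z' (Ne.symm h)) hy.1 (hsub Z' hy.2)
  · rw [dense_iff_inter_open]
    intro O hO hOne
    obtain ⟨x, hx⟩ := hOne
    let Z : irreducibleComponents (X : Type u) := ⟨_, irreducibleComponent_mem_irreducibleComponents x⟩
    obtain ⟨y, -, hyO, hyU⟩ := Z.2.1.2 _ _ hO (U Z).2 ⟨x, mem_irreducibleComponent, hx⟩
      ((hne Z).mono fun y hy => ⟨hsub Z hy, hy⟩)
    exact ⟨y, hyO, Opens.mem_iSup.2 ⟨Z, hyU⟩⟩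

/-- Ring-theoretic core. -/
theorem exists_smooth_red (k A : Type u) [Field k] [CommRing A] [Algebra k A] [Algebra.FiniteType k A] :
    ∃ (k' : Type u) (_ : Field k') (_ : Algebra k k') (_ : Module.Finite k k') (_ : IsPurelyInseparable k k') (c : A),
      (∀ a : A, IsNilpotent (c * a) → IsNilpotent a) ∧
      ∀ (R : Type u) [CommRing R] [Algebra A R] [Algebra k R] [IsScalarTower k A R] [IsLocalization.Away c R],
        ∃ (Q : Type u) (_ : CommRing Q) (_ : Algebra k' Q) (_ : IsReduced Q) (ρ : R ⊗[k] k' →+* Q),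
          Function.Surjective ρ ∧ RingHom.ker ρ ≤ nilradical (R ⊗[k] k') ∧
          (∀ z : k', ρ (Algebra.TensorProduct.includeRight (R := k) (A := R) z) = algebraMap k' Q z) ∧
          Algebra.Smooth k' Q := by
  obtain ⟨k', _, _, hfin, hpi, hgr⟩ := GeomProp.exists_finiteType k A
  haveI := hfin
  haveI := hpi
  let Q₀ := (k' ⊗[k] A) ⧸ nilradical (k' ⊗[k] A)
  haveI : Algebra.IsGeometricallyReduced k' Q₀ := hgr
  haveI : IsReduced Q₀ := Algebra.isReduced_of_isGeometricallyReduced (k := k')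
  haveI : Algebra.FiniteType k' Q₀ :=
    Algebra.FiniteType.of_surjective (Ideal.Quotient.mkₐ k' _) Ideal.Quotient.mk_surjective
  haveI : Algebra.FinitePresentation k' Q₀ :=
    haveI : IsNoetherianRing k' := inferInstance
    Algebra.FinitePresentation.of_finiteType.1 inferInstance
  obtain ⟨g, hg, hsm⟩ := GeomRedSpread.exists_nonZeroDivisor_smooth k' Q₀
  obtain ⟨z, rfl⟩ := Ideal.Quotient.mk_surjective g
  obtain ⟨N, hN, c, hc⟩ := GeomProp.exists_pow_mem k k' A z
  let ι₀ : A →+* Q₀ := (Ideal.Quotient.mk _).comp (Algebra.TensorProduct.includeRight (R := k) (A := k')).toRingHom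
  have hcg : ι₀ c = Ideal.Quotient.mk _ z ^ N := by
    rw [← map_pow, hc]; rfl
  have hnzd : ι₀ c ∈ nonZeroDivisors Q₀ := hcg ▸ pow_mem hg N
  have hker : ∀ a : A, ι₀ a = 0 → IsNilpotent a := fun a ha => by
    obtain ⟨m, hm⟩ := (Ideal.Quotient.eq_zero_iff_mem.1 ha : IsNilpotent ((1 : k') ⊗ₜ[k] a))
    refine ⟨m, Algebra.TensorProduct.includeRight_injective (R := k) (A := k') (RingHom.injective _) ?_⟩
    rw [map_pow, map_zero]; exact hm
  refine ⟨k', inferInstance, inferInstance, hfin, hpi, c, fun a ha => ?_, fun R _ _ _ _ _ => ?_⟩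
  · refine hker a (mem_nonZeroDivisors_iff_right.1 hnzd (ι₀ a) ?_)
    rw [mul_comm, ← map_mul]
    exact (ha.map ι₀).eq_zero
  let Q := Localization.Away (ι₀ c)
  haveI : IsReduced Q := isReduced_localizationPreserves (Submonoid.powers (ι₀ c)) Q inferInstance
  let ι₁ : A →+* Q := (algebraMap Q₀ Q).comp ι₀
  have hι₁ : IsUnit (ι₁ c) := IsLocalization.Away.algebraMap_isUnit (S := Q) (ι₀ c)
  let φ : R →+* Q := IsLocalization.Away.lift c hι₁
  have hφ : ∀ a, φ (algebraMap A R a) = ι₁ a := fun a => IsLocalization.Away.lift_eq c hι₁ a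
  have hι₀k : ∀ x : k, ι₀ (algebraMap k A x) = algebraMap k' Q₀ (algebraMap k k' x) := fun x => by
    show Ideal.Quotient.mk _ ((1 : k') ⊗ₜ[k] algebraMap k A x) = _
    rw [Algebra.algebraMap_eq_smul_one, TensorProduct.tmul_smul, TensorProduct.smul_tmul',
      ← Algebra.algebraMap_eq_smul_one]
    rfl
  let φ' : R →ₐ[k] Q := { φ with
    commutes' := fun x => by
      show φ (algebraMap k R x) = algebraMap k Q x
      rw [IsScalarTower.algebraMap_apply k A R, hφ]
      show algebraMap Q₀ Q (ι₀ _) = _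
      rw [hι₀k, IsScalarTower.algebraMap_apply k Q₀ Q x]
      rfl }
  let ψ' : k' →ₐ[k] Q := { algebraMap k' Q with
    commutes' := fun x => by
      show algebraMap k' Q (algebraMap k k' x) = algebraMap k Q x
      rw [IsScalarTower.algebraMap_apply k' Q₀ Q, IsScalarTower.algebraMap_apply k Q₀ Q]
      rfl }
  let ρ := (Algebra.TensorProduct.lift φ' ψ' fun _ _ => Commute.all _ _).toRingHom
  have hρ : ∀ (r : R) (t : k'), ρ (r ⊗ₜ t) = φ r * algebraMap k' Q t := fun r t =>
    Algebra.TensorProduct.lift_tmul _ _ _ _ _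
  refine ⟨Q, inferInstance, inferInstance, inferInstance, ρ, ?_, ?_, fun t => ?_, ?_⟩
  · have himg : ∀ w : k' ⊗[k] A, ∃ r : R ⊗[k] k', ρ r = algebraMap Q₀ Q (Ideal.Quotient.mk _ w) := by
      intro w
      induction w using TensorProduct.induction_on with
      | zero => exact ⟨0, by simp⟩
      | add x y hx hy =>
        obtain ⟨r, hr⟩ := hx
        obtain ⟨r', hr'⟩ := hy
        exact ⟨r + r', by rw [map_add, hr, hr', map_add, map_add]⟩
      | tmul t a =>
        refine ⟨algebraMap A R a ⊗ₜ t, ?_⟩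
        rw [hρ, hφ, IsScalarTower.algebraMap_apply k' Q₀ Q]
        show algebraMap Q₀ Q _ * _ = _
        rw [← map_mul]
        refine congrArg _ ?_
        show Ideal.Quotient.mk _ ((1 : k') ⊗ₜ[k] a) * Ideal.Quotient.mk _ (t ⊗ₜ[k] (1 : A)) = _
        rw [← map_mul, Algebra.TensorProduct.tmul_mul_tmul, one_mul, mul_one]
    intro q
    obtain ⟨m, q₀, hq⟩ := IsLocalization.Away.surj (ι₀ c) q
    obtain ⟨w, rfl⟩ := Ideal.Quotient.mk_surjective q₀
    obtain ⟨r, hr⟩ := himg w
    refine ⟨r * (IsLocalization.Away.invSelf c ⊗ₜ (1 : k')) ^ m, ?_⟩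
    have hinv : ρ (IsLocalization.Away.invSelf c ⊗ₜ (1 : k')) * algebraMap Q₀ Q (ι₀ c) = 1 := by
      rw [hρ, map_one, mul_one, show algebraMap Q₀ Q (ι₀ c) = φ (algebraMap A R c) from (hφ c).symm, ← map_mul,
        mul_comm, IsLocalization.Away.mul_invSelf, map_one]
    rw [map_mul, map_pow, hr, ← hq, mul_assoc, ← mul_pow, mul_comm (algebraMap Q₀ Q (ι₀ c)), hinv, one_pow, mul_one]
  · intro x hx
    obtain ⟨M, hM, d, hd⟩ := GeomProp.exists_pow_mem k k' R (Algebra.TensorProduct.comm k R k' x)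
    have hd' : x ^ M = d ⊗ₜ[k] (1 : k') := by
      refine (Algebra.TensorProduct.comm k R k').injective ?_
      rw [map_pow, hd]; rfl
    have h0 : φ d = 0 := by
      have := congrArg ρ hd'
      rw [map_pow, RingHom.mem_ker.1 hx, zero_pow hM.ne', hρ, map_one, mul_one] at this
      exact this.symm
    obtain ⟨m, a, ha⟩ := IsLocalization.Away.surj c d
    have h1 : algebraMap Q₀ Q (ι₀ a) = 0 := by
      show ι₁ a = 0
      rw [← hφ, ← ha, map_mul, h0, zero_mul]
    obtain ⟨⟨_, l, rfl⟩, hl⟩ := (IsLocalization.map_eq_zero_iff (Submonoid.powers (ι₀ c)) Q _).1 h1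
    have h2 : ι₀ a = 0 := mem_nonZeroDivisors_iff_right.1 (pow_mem hnzd l) _ (by rw [mul_comm]; exact hl)
    have h3 : IsNilpotent (algebraMap A R a) := (hker a h2).map _
    have hu : IsUnit (algebraMap A R c ^ m) := (IsLocalization.Away.algebraMap_isUnit c).pow m
    have h4 : IsNilpotent d := by
      rw [show d = algebraMap A R a * (hu.unit⁻¹ : Rˣ) by rw [← ha, mul_assoc, hu.mul_val_inv, mul_one]]
      exact (Commute.all _ _).isNilpotent_mul_right h3
    obtain ⟨e, he⟩ := h4
    refine ⟨M * e, ?_⟩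
    rw [pow_mul, hd', Algebra.TensorProduct.tmul_pow, he, TensorProduct.zero_tmul]; exact Submodule.zero_mem _
  · show ρ ((1 : R) ⊗ₜ t) = _
    rw [hρ, map_one, one_mul]
  · have : (PrimeSpectrum.basicOpen (ι₀ c) : Set (PrimeSpectrum Q₀)) ⊆ Algebra.smoothLocus k' Q₀ := fun q hq =>
      hsm q fun h => hq (show ι₀ c ∈ q.asIdeal from hcg ▸ q.asIdeal.pow_mem_of_mem h N hN)
    exact Algebra.basicOpen_subset_smoothLocus_iff_smooth.1 this

theorem main (k : Type u) [Field k] {X : Scheme.{u}}
    (f : X ⟶ Spec (CommRingCat.of k)) [LocallyOfFiniteType f] [QuasiCompact f] :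
    ∃ (U : X.Opens) (_ : Dense (U : Set X)) (k' : Type u) (_ : Field k') (_ : Algebra k k') (_ : Module.Finite k k')
      (_ : IsPurelyInseparable k k') (Z : Scheme.{u}) (_ : IsReduced Z)
      (i : Z ⟶ pullback (U.ι ≫ f) (Spec.map (CommRingCat.ofHom (algebraMap k k')))),
      IsClosedImmersion i ∧ Function.Surjective i.base ∧
      Smooth (i ≫ pullback.snd (U.ι ≫ f) (Spec.map (CommRingCat.ofHom (algebraMap k k')))) := by
  letI : X.Over (Spec (CommRingCat.of k)) := ⟨f⟩
  haveI : LocallyOfFiniteType (X ↘ Spec (CommRingCat.of k)) := ‹LocallyOfFiniteType f›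
  haveI : CompactSpace X := HasAffineProperty.iff_of_isAffine.1 ‹QuasiCompact f›
  haveI : IsNoetherian X := { __ := LocallyOfFiniteType.isLocallyNoetherian f }
  obtain ⟨U₀, hU₀, hdense⟩ := exists_dense_isAffineOpen X
  letI : Algebra k Γ(X, U₀) := (ZeroSch.cst k U₀).toAlgebra
  haveI : Algebra.FiniteType k Γ(X, U₀) := RingHom.finiteType_algebraMap.1 (ZeroSch.finiteType_cst hU₀)
  obtain ⟨k', _, _, hfin, hpi, c, hc, hQ⟩ := exists_smooth_red k Γ(X, U₀)
  let U := X.basicOpen c
  have hU : IsAffineOpen U := hU₀.basicOpen c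
  have hUdense : Dense (U : Set X) := by
    rw [dense_iff_inter_open]
    intro O hO hOne
    obtain ⟨y, hyO, hyU⟩ := (dense_iff_inter_open.1 hdense) O hO hOne
    obtain ⟨a, haO, hya⟩ := hU₀.exists_basicOpen_le (V := ⟨O, hO⟩) ⟨y, hyO⟩ hyU
    by_contra hne
    have hbot : X.basicOpen (c * a) = ⊥ := by
      rw [Scheme.basicOpen_mul]
      refine Opens.ext (Set.eq_empty_iff_forall_notMem.2 fun z hz => hne ⟨z, haO hz.2, hz.1⟩)
    have hnil : IsNilpotent (c * a) := by
      rw [← PrimeSpectrum.basicOpen_eq_bot_iff, ← hU₀.fromSpec_preimage_basicOpen, hbot]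
      rfl
    have : X.basicOpen a = ⊥ := by
      refine Opens.ext (Set.eq_empty_iff_forall_notMem.2 fun z hz => ?_)
      have hzU : z ∈ U₀ := X.basicOpen_le a hz
      exact ((hc a hnil).map (X.presheaf.germ U₀ z hzU).hom).not_isUnit ((X.mem_basicOpen a z hzU).1 hz)
    exact (this ▸ hya : y ∈ (⊥ : X.Opens))
  haveI := hU₀.isLocalization_basicOpen c
  letI : Algebra k Γ(X, U) := (ZeroSch.cst k U).toAlgebra
  haveI : IsScalarTower k Γ(X, U₀) Γ(X, U) :=
    IsScalarTower.of_algebraMap_eq fun x => (ZeroSch.cst_res (X.basicOpen_le c) x).symm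
  obtain ⟨Q, _, _, _, ρ, hsurj, hker, hk, hsm⟩ := hQ Γ(X, U)
  let g := Spec.map (CommRingCat.ofHom (algebraMap k k'))
  let s := Spec.map (CommRingCat.ofHom (algebraMap k Γ(X, U)))
  have hs : s ≫ 𝟙 _ = hU.isoSpec.inv ≫ U.ι ≫ f := by
    rw [Category.comp_id, IsAffineOpen.isoSpec_inv_ι_assoc]
    exact ZeroSch.specMap_cst hU
  let e := pullback.map s g (U.ι ≫ f) g hU.isoSpec.inv (𝟙 _) (𝟙 _) hs (by simp)
  let i := Spec.map (CommRingCat.ofHom ρ) ≫ (pullbackSpecIso k Γ(X, U) k').inv ≫ e
  haveI hcl : IsClosedImmersion (Spec.map (CommRingCat.ofHom ρ)) := IsClosedImmersion.spec_of_surjective _ hsurj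
  refine ⟨U, hUdense, k', inferInstance, inferInstance, hfin, hpi, Spec (CommRingCat.of Q), inferInstance, i,
    inferInstance, ?_, ?_⟩
  · have h1 : Function.Surjective (Spec.map (CommRingCat.ofHom ρ)).base := fun p => by
      have hp : p ∈ Set.range (PrimeSpectrum.comap ρ) := by
        rw [range_comap_of_surjective _ _ hsurj, PrimeSpectrum.mem_zeroLocus]
        exact hker.trans (nilradical_le_prime p.asIdeal)
      exact hp
    have h2 : Function.Surjective ((pullbackSpecIso k Γ(X, U) k').inv ≫ e).base :=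
      (AlgebraicGeometry.Surjective.surj : Function.Surjective ((pullbackSpecIso k Γ(X, U) k').inv ≫ e).base)
    exact h2.comp h1
  · have he : i ≫ pullback.snd (U.ι ≫ f) g = Spec.map (CommRingCat.ofHom (algebraMap k' Q)) := by
      simp only [i, e, Category.assoc, pullback.lift_snd, Category.comp_id]
      rw [show (pullbackSpecIso k Γ(X, U) k').inv ≫ pullback.snd s g = _ from pullbackSpecIso_inv_snd k Γ(X, U) k', ← Spec.map_comp]
      rw [← CommRingCat.ofHom_comp]
      exact congrArg (fun r => Spec.map (CommRingCat.ofHom r)) (RingHom.ext hk)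
    rw [he]
    exact (HasRingHomProperty.Spec_iff (P := @Smooth)).2 (RingHom.smooth_algebraMap.2 hsm)

end Groth.Agent.PiSmooth
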